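import Groth.Agent.Lib.Depth.Basic
import Groth.Agent.Lib.Depth.CM
import Mathlib

/-!
# The Auslander–Buchsbaum formula
-/

universe u

open CategoryTheory IsLocalRing Abelian

namespace GrothLib.AusBuch

variable (R : Type u) [CommRing R] [IsLocalRing R]

local notation "kk" => ModuleCat.of R (R ⧸ maximalIdeal R)

/-- vanishing of `Ext^i(k, M)` -/
abbrev Van (M : Type u) [AddCommGroup M] [Module R M] (i : ℕ) : Prop :=
  Subsingleton (Ext (kk) (ModuleCat.of R M) i)

theorem smul_ext_eq_zero {a : R} (ha : a ∈ maximalIdeal R) {Y : ModuleCat.{u} R} {i : ℕ} (x : Ext (kk) Y i) :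
    a • x = 0 := by
  have h0 : a • 𝟙 (kk) = 0 := by
    apply ModuleCat.hom_ext
    refine LinearMap.ext fun (y : R ⧸ maximalIdeal R) => ?_
    show a • y = 0
    rw [Algebra.smul_def, Ideal.Quotient.algebraMap_eq, Ideal.Quotient.eq_zero_iff_mem.2 ha, zero_mul]
  conv_lhs => rw [← Ext.mk₀_id_comp x]
  rw [← Ext.smul_comp, ← Ext.mk₀_smul, h0, Ext.mk₀_zero, Ext.zero_comp]

/-- A map of finite free modules with matrix entries in the maximal ideal kills `Ext^i(k, ·)`. -/
theorem comp_eq_zero_of_entries {K : Type u} [AddCommGroup K] [Module R K] [Module.Finite R K] [Module.Free R K] {n : ℕ}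
    (f : K →ₗ[R] (Fin n → R)) (hf : ∀ x j, f x j ∈ maximalIdeal R) {i : ℕ}
    (x : Ext (kk) (ModuleCat.of R K) i) :
    x.comp (Ext.mk₀ (ModuleCat.ofHom f)) (add_zero i) = 0 := by
  classical
  let b := Module.Free.chooseBasis R K
  have hdec : ModuleCat.ofHom f = ∑ p : Module.Free.ChooseBasisIndex R K × Fin n,
      (f (b p.1) p.2) • ModuleCat.ofHom ((b.coord p.1).smulRight (Pi.single p.2 (1 : R) : Fin n → R)) := by
    apply ModuleCat.hom_ext
    refine b.ext fun l => funext fun j => ?_
    rw [ModuleCat.hom_sum, LinearMap.sum_apply, Finset.sum_apply, Finset.sum_eq_single (l, j)]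
    · simp
    · rintro ⟨l', j'⟩ _ hne
      by_cases hl : l' = l
      · subst hl
        have : j ≠ j' := fun h => hne (by rw [h])
        simp [Pi.single_apply, this]
      · simp [Finsupp.single_eq_of_ne hl]
    · simp
  rw [hdec]
  have hlin : ∀ (g : (Module.Free.ChooseBasisIndex R K × Fin n) → (ModuleCat.of R K ⟶ ModuleCat.of R (Fin n → R))),
      x.comp (Ext.mk₀ (∑ p, g p)) (add_zero i) = ∑ p, x.comp (Ext.mk₀ (g p)) (add_zero i) := fun g =>
    map_sum (((Ext.bilinearCompOfLinear R (kk) (ModuleCat.of R K) (ModuleCat.of R (Fin n → R)) i 0 i (add_zero i)) x).comp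
      (Ext.linearEquiv₀ (R := R)).symm.toLinearMap) g Finset.univ
  rw [hlin]
  refine Finset.sum_eq_zero fun p _ => ?_
  rw [Ext.mk₀_smul, Ext.comp_smul]
  exact smul_ext_eq_zero R (hf _ _) _

theorem van_of_retract {M N : Type u} [AddCommGroup M] [Module R M] [AddCommGroup N] [Module R N]
    (f : M →ₗ[R] N) (g : N →ₗ[R] M) (h : ∀ x, g (f x) = x) {i : ℕ} (hN : Van R N i) : Van R M i := by
  refine ⟨fun x y => ?_⟩
  have key : ∀ z : Ext (kk) (ModuleCat.of R M) i,
      z = (z.comp (Ext.mk₀ (ModuleCat.ofHom f)) (add_zero i)).comp (Ext.mk₀ (ModuleCat.ofHom g)) (add_zero i) := by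
    intro z
    have hfg : ModuleCat.ofHom f ≫ ModuleCat.ofHom g = 𝟙 (ModuleCat.of R M) := by ext v; exact h v
    rw [Ext.comp_assoc_of_third_deg_zero, Ext.mk₀_comp_mk₀, hfg, Ext.comp_mk₀_id]
  rw [key x, key y, Subsingleton.elim (x.comp (Ext.mk₀ (ModuleCat.ofHom f)) (add_zero i))]

theorem van_pi {n : ℕ} {i : ℕ} (h : Van R R i) : Van R (Fin n → R) i := by
  classical
  refine subsingleton_of_forall_eq 0 fun z => ?_
  have hid : 𝟙 (ModuleCat.of R (Fin n → R)) =
      ∑ j : Fin n, ModuleCat.ofHom (LinearMap.proj j : (Fin n → R) →ₗ[R] R) ≫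
        ModuleCat.ofHom (LinearMap.single R (fun _ : Fin n => R) j) := by
    apply ModuleCat.hom_ext
    refine LinearMap.ext fun v => funext fun l => ?_
    simp [LinearMap.sum_apply, Finset.sum_apply, Pi.single_apply]
  rw [← Ext.comp_mk₀_id z, hid]
  have hlin : ∀ (g : Fin n → (ModuleCat.of R (Fin n → R) ⟶ ModuleCat.of R (Fin n → R))),
      z.comp (Ext.mk₀ (∑ p, g p)) (add_zero i) = ∑ p, z.comp (Ext.mk₀ (g p)) (add_zero i) := fun g =>
    map_sum (((Ext.bilinearCompOfLinear R (kk) (ModuleCat.of R (Fin n → R)) (ModuleCat.of R (Fin n → R)) i 0 i (add_zero i)) z).comp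
      (Ext.linearEquiv₀ (R := R)).symm.toLinearMap) g Finset.univ
  rw [hlin]
  refine Finset.sum_eq_zero fun j _ => ?_
  rw [← Ext.mk₀_comp_mk₀, ← Ext.comp_assoc_of_third_deg_zero,
    Subsingleton.elim (α := Ext (kk) (ModuleCat.of R R) i) (z.comp _ (add_zero i)) 0, Ext.zero_comp]

variable {M : Type u} [AddCommGroup M] [Module R M] {n : ℕ} (π : (Fin n → R) →ₗ[R] M)

/-- the presentation sequence -/
noncomputable def presSC : ShortComplex (ModuleCat.{u} R) :=
  ShortComplex.mk (ModuleCat.ofHom (LinearMap.ker π).subtype) (ModuleCat.ofHom π)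
    (by ext x; exact x.2)

theorem presSC_shortExact (hπ : Function.Surjective π) : (presSC R π).ShortExact := by
  refine ShortComplex.ShortExact.mk' ?_ ?_ ?_
  · rw [ShortComplex.moduleCat_exact_iff]
    intro x hx
    exact ⟨⟨x, hx⟩, rfl⟩
  · exact (ModuleCat.mono_iff_injective _).2 Subtype.val_injective
  · exact (ModuleCat.epi_iff_surjective _).2 hπ

/-- `depth M = d`, in terms of `Ext`. -/
def IsDepth (M : Type u) [AddCommGroup M] [Module R M] (d : ℕ) : Prop :=
  (∀ i < d, Van R M i) ∧ ¬ Van R M d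

variable [IsNoetherianRing R]

theorem exists_minimal_cover (M : Type u) [AddCommGroup M] [Module R M] [Module.Finite R M] :
    ∃ (n : ℕ) (π : (Fin n → R) →ₗ[R] M), Function.Surjective π ∧
      ∀ (a : LinearMap.ker π) (j : Fin n), (a : Fin n → R) j ∈ maximalIdeal R := by
  classical
  have hex : ∃ n, ∃ π : (Fin n → R) →ₗ[R] M, Function.Surjective π := Module.Finite.exists_fin' R M
  obtain ⟨n, hn, π, hπ⟩ : ∃ n, n = Nat.find hex ∧ ∃ π : (Fin n → R) →ₗ[R] M, Function.Surjective π :=
    ⟨_, rfl, Nat.find_spec hex⟩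
  refine ⟨n, π, hπ, fun a j => ?_⟩
  by_contra hj
  obtain ⟨u, hu⟩ := notMem_maximalIdeal.1 hj
  obtain ⟨m, rfl⟩ : ∃ m, n = m + 1 := ⟨n - 1, by have := j.2; omega⟩
  refine Nat.find_min hex (m := m) (by omega) ⟨π ∘ₗ
    (LinearMap.pi fun l : Fin (m + 1) => if h : l = j then 0 else LinearMap.proj ((finSuccEquiv' j l).get (by
      obtain ⟨l', rfl⟩ := Fin.exists_succAbove_eq h; simp))), fun y => ?_⟩
  obtain ⟨v, rfl⟩ := hπ y
  refine ⟨fun l => (v - (v j * (↑u⁻¹ : R)) • (a : Fin (m + 1) → R)) (j.succAbove l), ?_⟩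
  rw [LinearMap.comp_apply]
  have : π (v - (v j * (↑u⁻¹ : R)) • (a : Fin (m + 1) → R)) = π v := by
    rw [map_sub, map_smul, show π (a : Fin (m + 1) → R) = 0 from a.2, smul_zero, sub_zero]
  rw [← this]
  congr 1
  funext l
  by_cases h : l = j
  · subst h
    simp [← hu, mul_assoc, u.inv_mul]
  · obtain ⟨l', rfl⟩ := Fin.exists_succAbove_eq h
    simp [LinearMap.pi_apply]

theorem isDepth_exists [Module.Finite R M] [Nontrivial M] :
    ∃ d : ℕ, LocCoh.depth R M = d ∧ IsDepth R M d := by
  obtain ⟨d, hd⟩ := ENat.ne_top_iff_exists.1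
    (GrothLib.Depth.idealDepth_ne_top (M := M) (maximalIdeal.isMaximal R).ne_top)
  refine ⟨d, hd.symm, (GrothLib.Depth.le_idealDepth_iff_ext _ d).1 hd.le, fun hv => ?_⟩
  have h1 : ((d + 1 : ℕ) : ℕ∞) ≤ LocCoh.idealDepth (maximalIdeal R) M := by
    refine (GrothLib.Depth.le_idealDepth_iff_ext _ _).2 fun i hi => ?_
    rcases Nat.lt_succ_iff_lt_or_eq.1 hi with hi | rfl
    · exact (GrothLib.Depth.le_idealDepth_iff_ext _ d).1 hd.le i hi
    · exact hv
  rw [← hd] at h1
  exact Nat.not_succ_le_self d (by exact_mod_cast h1)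

theorem exists_isDepth_of_pd (e : ℕ) : ∀ (M : Type u) [AddCommGroup M] [Module R M] [Module.Finite R M] [Nontrivial M],
    HasProjectiveDimensionLE (ModuleCat.of R M) e → ¬ HasProjectiveDimensionLT (ModuleCat.of R M) e →
    ∃ d : ℕ, IsDepth R M d ∧ IsDepth R R (d + e) := by
  induction e with
  | zero =>
    intro M _ _ _ _ hle _
    have hproj : Module.Projective R M := by
      rw [IsProjective.iff_projective, projective_iff_hasProjectiveDimensionLT_one]; exact hle
    haveI : Module.Free R M := Module.free_of_flat_of_isLocalRing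
    obtain ⟨d, -, hd⟩ := isDepth_exists R (M := R)
    let b := Module.finBasis R M
    have hpos : 0 < Module.finrank R M := b.index_nonempty.elim fun j => by have := j.2; omega
    refine ⟨d, ⟨fun i hi => ?_, fun hv => ?_⟩, hd⟩
    · exact van_of_retract R b.equivFun.toLinearMap b.equivFun.symm.toLinearMap
        (fun x => b.equivFun.symm_apply_apply x) (van_pi R (hd.1 i hi))
    · refine hd.2 (van_of_retract R (LinearMap.toSpanSingleton R M (b ⟨0, hpos⟩)) (b.coord ⟨0, hpos⟩)
        (fun x => by simp) hv)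
  | succ e ih =>
    intro M _ _ _ _ hle hnlt
    obtain ⟨n, π, hπ, hmin⟩ := exists_minimal_cover R M
    have hS := presSC_shortExact R π hπ
    haveI : Projective (presSC R π).X₂ := inferInstanceAs (Projective (ModuleCat.of R (Fin n → R)))
    haveI : Nontrivial (LinearMap.ker π) := by
      by_contra h
      rw [not_nontrivial_iff_subsingleton] at h
      have hinj : Function.Injective π := LinearMap.ker_eq_bot.1 (Submodule.subsingleton_iff_eq_bot.1 h)
      refine hnlt ?_
      haveI : Module.Projective R M := Module.Projective.of_equiv (LinearEquiv.ofBijective π ⟨hinj, hπ⟩)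
      haveI : HasProjectiveDimensionLT (ModuleCat.of R M) 1 :=
        projective_iff_hasProjectiveDimensionLT_one.1 ((IsProjective.iff_projective _).1 inferInstance)
      exact hasProjectiveDimensionLT_of_ge _ 1 (e + 1) (by omega)
    -- the long exact sequence
    have surjDelta : ∀ i, Van R (Fin n → R) (i + 1) → Van R M i → Van R (LinearMap.ker π) (i + 1) := by
      intro i h2 h3
      refine subsingleton_of_forall_eq 0 fun x => ?_
      obtain ⟨z, hz⟩ := Ext.covariant_sequence_exact₁ (kk) hS x (Subsingleton.elim (α := Ext (kk) (ModuleCat.of R (Fin n → R)) (i + 1)) _ _) rfl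
      haveI : Subsingleton (Ext (kk) (presSC R π).X₃ i) := h3
      rw [← hz, Subsingleton.elim z 0, Ext.zero_comp]
      rfl
    have vanM : ∀ i, Van R (Fin n → R) i → Van R (LinearMap.ker π) (i + 1) → Van R M i := by
      intro i h2 h1
      refine subsingleton_of_forall_eq 0 fun z => ?_
      obtain ⟨y, hy⟩ := Ext.covariant_sequence_exact₃ (kk) hS z rfl (Subsingleton.elim (α := Ext (kk) (ModuleCat.of R (LinearMap.ker π)) (i + 1)) _ _)
      haveI : Subsingleton (Ext (kk) (presSC R π).X₂ i) := h2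
      rw [← hy, Subsingleton.elim y 0, Ext.zero_comp]
      rfl
    have vanK0 : Van R (Fin n → R) 0 → Van R (LinearMap.ker π) 0 := fun h2 =>
      subsingleton_of_forall_eq 0 fun x => by
        haveI := hS.mono_f
        exact Ext.postcomp_mk₀_injective_of_mono (kk) (presSC R π).f
          (Subsingleton.elim (α := Ext (kk) (ModuleCat.of R (Fin n → R)) 0) _ _)
    cases e with
    | zero =>
      -- projective dimension one
      have hK : HasProjectiveDimensionLT (presSC R π).X₁ 1 := (hS.hasProjectiveDimensionLT_X₃_iff 0 inferInstance).1 hle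
      have hproj : Module.Projective R (LinearMap.ker π) := by
        rw [IsProjective.iff_projective, projective_iff_hasProjectiveDimensionLT_one]; exact hK
      haveI : Module.Free R (LinearMap.ker π) := Module.free_of_flat_of_isLocalRing
      have hzero : ∀ (i : ℕ) (x : Ext (kk) (ModuleCat.of R (LinearMap.ker π)) i),
          x.comp (Ext.mk₀ (presSC R π).f) (add_zero i) = 0 := fun i x =>
        comp_eq_zero_of_entries R (LinearMap.ker π).subtype hmin x
      let b := Module.finBasis R (LinearMap.ker π)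
      have hpos : 0 < Module.finrank R (LinearMap.ker π) := b.index_nonempty.elim fun j => by have := j.2; omega
      have hKR : ∀ i, Van R (LinearMap.ker π) i → Van R R i := fun i h =>
        van_of_retract R (LinearMap.toSpanSingleton R _ (b ⟨0, hpos⟩)) (b.coord ⟨0, hpos⟩) (fun x => by simp) h
      have hRK : ∀ i, Van R R i → Van R (LinearMap.ker π) i := fun i h =>
        van_of_retract R b.equivFun.toLinearMap b.equivFun.symm.toLinearMap
          (fun x => b.equivFun.symm_apply_apply x) (van_pi R h)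
      have h0 : Van R R 0 := hKR 0 (subsingleton_of_forall_eq 0 fun x => by
        haveI := hS.mono_f
        exact Ext.postcomp_mk₀_injective_of_mono (kk) (presSC R π).f ((hzero 0 x).trans (map_zero ((Ext.mk₀ (presSC R π).f).postcomp (kk) (add_zero 0))).symm))
      obtain ⟨r, -, hr⟩ := isDepth_exists R (M := R)
      obtain ⟨d, rfl⟩ : ∃ d, r = d + 1 := ⟨r - 1, by
        rcases Nat.eq_zero_or_pos r with h | h
        · exact absurd (h ▸ h0) hr.2
        · omega⟩
      refine ⟨d, ⟨fun i hi => vanM i (van_pi R (hr.1 i (by omega))) (hRK _ (hr.1 _ (by omega))), fun hv => ?_⟩, hr⟩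
      refine hr.2 (hKR _ (subsingleton_of_forall_eq 0 fun x => ?_))
      obtain ⟨z, hz⟩ := Ext.covariant_sequence_exact₁ (kk) hS x (hzero _ x) rfl
      haveI : Subsingleton (Ext (kk) (presSC R π).X₃ d) := hv
      rw [← hz, Subsingleton.elim z 0, Ext.zero_comp]
      rfl
    | succ e =>
      have hK : HasProjectiveDimensionLE (ModuleCat.of R (LinearMap.ker π)) (e + 1) :=
        (hS.hasProjectiveDimensionLT_X₃_iff (e + 1) inferInstance).1 hle
      have hK' : ¬ HasProjectiveDimensionLT (ModuleCat.of R (LinearMap.ker π)) (e + 1) := fun h =>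
        hnlt ((hS.hasProjectiveDimensionLT_X₃_iff e inferInstance).2 h)
      obtain ⟨d1, hd1, hr⟩ := ih (LinearMap.ker π) hK hK'
      have hd1' : d1 ≠ 0 := fun h => hd1.2 (h ▸ vanK0 (van_pi R (hr.1 0 (by omega))))
      obtain ⟨d, rfl⟩ : ∃ d, d1 = d + 1 := ⟨d1 - 1, by omega⟩
      refine ⟨d, ⟨fun i hi => vanM i (van_pi R (hr.1 i (by omega))) (hd1.1 _ (by omega)),
        fun hv => hd1.2 (surjDelta d (van_pi R (hr.1 _ (by omega))) hv)⟩, ?_⟩
      rwa [show d + (e + 1 + 1) = d + 1 + (e + 1) by omega]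

omit [IsNoetherianRing R] in
theorem IsDepth.unique {M : Type u} [AddCommGroup M] [Module R M] {d d' : ℕ} (h : IsDepth R M d)
    (h' : IsDepth R M d') : d = d' := by
  rcases lt_trichotomy d d' with hlt | rfl | hlt
  · exact absurd (h'.1 d hlt) h.2
  · rfl
  · exact absurd (h.1 d' hlt) h'.2

end GrothLib.AusBuch
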