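import Groth.Agent.Lib.AusBuch.Basic
import Mathlib

/-!
# Projective dimension along a change of rings
-/

universe u

open CategoryTheory

namespace GrothLib.AusBuch

variable (R : Type u) [CommRing R] {S : Type u} [CommRing S] [Algebra R S]

theorem hasPDLE_pi {a : ℕ} (hS : HasProjectiveDimensionLE (ModuleCat.of R S) a) (n : ℕ) :
    HasProjectiveDimensionLE (ModuleCat.of R (Fin n → S)) a := by
  induction n with
  | zero =>
    haveI : Subsingleton (ModuleCat.of R (Fin 0 → S)) := inferInstanceAs (Subsingleton (Fin 0 → S))
    haveI : HasProjectiveDimensionLT (ModuleCat.of R (Fin 0 → S)) 0 :=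
      (ModuleCat.isZero_of_subsingleton _).hasProjectiveDimensionLT_zero
    exact hasProjectiveDimensionLT_of_ge _ 0 (a + 1) (Nat.zero_le _)
  | succ n ih =>
    let Z : ShortComplex (ModuleCat.{u} R) := ShortComplex.mk
      (ModuleCat.ofHom (LinearMap.single R (fun _ : Fin (n + 1) => S) 0))
      (ModuleCat.ofHom (LinearMap.funLeft R S Fin.succ))
      (by apply ModuleCat.hom_ext; ext x j; simp [LinearMap.funLeft_apply]; rfl)
    have hZ : Z.ShortExact := by
      refine ShortComplex.ShortExact.mk' ?_ ?_ ?_
      · rw [ShortComplex.moduleCat_exact_iff]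
        intro v hv
        refine ⟨(v : Fin (n + 1) → S) 0, funext fun l => ?_⟩
        cases l using Fin.cases with
        | zero => simp [Z]
        | succ j =>
          have := congrFun (show LinearMap.funLeft R S Fin.succ v = 0 from hv) j
          simp only [LinearMap.funLeft_apply, Pi.zero_apply] at this
          simp [Z, this]
      · exact (ModuleCat.mono_iff_injective _).2 (Pi.single_injective (M := fun _ : Fin (n + 1) => S) 0)
      · exact (ModuleCat.epi_iff_surjective _).2 fun w => ⟨Fin.cons 0 w, funext fun j => by simp [Z, LinearMap.funLeft_apply]⟩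
    exact hZ.hasProjectiveDimensionLT_X₂ (a + 1) hS ih

theorem hasPDLE_change [IsNoetherianRing S] {a : ℕ} (hS : HasProjectiveDimensionLE (ModuleCat.of R S) a) :
    ∀ (e : ℕ) (E : Type u) [AddCommGroup E] [Module S E] [Module R E] [IsScalarTower R S E] [Module.Finite S E],
      HasProjectiveDimensionLE (ModuleCat.of S E) e → HasProjectiveDimensionLE (ModuleCat.of R E) (e + a) := by
  intro e
  induction e with
  | zero =>
    intro E _ _ _ _ _ hE
    have hproj : Module.Projective S E := by
      rw [IsProjective.iff_projective, projective_iff_hasProjectiveDimensionLT_one]; exact hE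
    obtain ⟨n, π, hπ⟩ := Module.Finite.exists_fin' S E
    obtain ⟨σ, hσ⟩ := Module.projective_lifting_property π LinearMap.id hπ
    haveI := hasPDLE_pi R hS n
    have hr : Retract (ModuleCat.of R E) (ModuleCat.of R (Fin n → S)) :=
      { i := ModuleCat.ofHom (σ.restrictScalars R)
        r := ModuleCat.ofHom (π.restrictScalars R)
        retract := by ext x; exact DFunLike.congr_fun hσ x }
    simpa using hr.hasProjectiveDimensionLT (a + 1)
  | succ e ih =>
    intro E _ _ _ _ _ hE
    obtain ⟨n, π, hπ⟩ := Module.Finite.exists_fin' S E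
    let Y : ShortComplex (ModuleCat.{u} S) := ShortComplex.mk
      (ModuleCat.ofHom (LinearMap.ker π).subtype) (ModuleCat.ofHom π) (by ext x; exact x.2)
    have hZ : Y.ShortExact := by
      refine ShortComplex.ShortExact.mk' ?_ ?_ ?_
      · rw [ShortComplex.moduleCat_exact_iff]
        intro x hx
        exact ⟨⟨x, hx⟩, rfl⟩
      · exact (ModuleCat.mono_iff_injective _).2 Subtype.val_injective
      · exact (ModuleCat.epi_iff_surjective _).2 hπ
    haveI : Projective Y.X₂ := inferInstanceAs (Projective (ModuleCat.of S (Fin n → S)))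
    have hK : HasProjectiveDimensionLE (ModuleCat.of S (LinearMap.ker π)) e :=
      (hZ.hasProjectiveDimensionLT_X₃_iff e inferInstance).1 hE
    let Z : ShortComplex (ModuleCat.{u} R) := ShortComplex.mk
      (ModuleCat.ofHom ((LinearMap.ker π).subtype.restrictScalars R))
      (ModuleCat.ofHom (π.restrictScalars R)) (by ext x; exact x.2)
    have hZR : Z.ShortExact := by
      refine ShortComplex.ShortExact.mk' ?_ ?_ ?_
      · rw [ShortComplex.moduleCat_exact_iff]
        intro x hx
        exact ⟨⟨x, hx⟩, rfl⟩
      · exact (ModuleCat.mono_iff_injective _).2 Subtype.val_injective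
      · exact (ModuleCat.epi_iff_surjective _).2 hπ
    have h1 : HasProjectiveDimensionLT Z.X₁ (e + a + 1) := ih (LinearMap.ker π) hK
    haveI := hasPDLE_pi R hS n
    have h2 : HasProjectiveDimensionLT Z.X₂ (e + a + 1 + 1) :=
      hasProjectiveDimensionLT_of_ge (ModuleCat.of R (Fin n → S)) (a + 1) _ (by omega)
    have h3 := hZR.hasProjectiveDimensionLT_X₃ (e + a + 1) h1 h2
    show HasProjectiveDimensionLT _ (e + 1 + a + 1)
    rw [show e + 1 + a + 1 = e + a + 1 + 1 by omega]
    exact h3

end GrothLib.AusBuch
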